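import Cfsg.Agent.Lib.Helper56.ONL37.Data

set_option autoImplicit false
set_option linter.unusedVariables false
set_option Elab.async false

namespace Cfsg.Agent.Lib.Helper56.ONL37

open Cfsg.Spor.ON (Gen)
open Cfsg.Agent.Lib.Helper28 Cfsg.Agent.Lib.Helper28.TC Cfsg.Agent.Lib.Helper28.TC2 Cfsg.Agent.Lib.Helper28.ON122760

noncomputable section

theorem relP_blk24 : allRange (guard nn relP) 8 (24 * 2 ^ 8) = true := by decide +kernel
theorem relP_blk25 : allRange (guard nn relP) 8 (25 * 2 ^ 8) = true := by decide +kernel
theorem relP_blk26 : allRange (guard nn relP) 8 (26 * 2 ^ 8) = true := by decide +kernel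
theorem relP_blk27 : allRange (guard nn relP) 8 (27 * 2 ^ 8) = true := by decide +kernel
theorem relP_blk28 : allRange (guard nn relP) 8 (28 * 2 ^ 8) = true := by decide +kernel
theorem relP_blk29 : allRange (guard nn relP) 8 (29 * 2 ^ 8) = true := by decide +kernel
theorem relP_blk30 : allRange (guard nn relP) 8 (30 * 2 ^ 8) = true := by decide +kernel
theorem relP_blk31 : allRange (guard nn relP) 8 (31 * 2 ^ 8) = true := by decide +kernel
theorem relP_blk32 : allRange (guard nn relP) 8 (32 * 2 ^ 8) = true := by decide +kernel
theorem relP_blk33 : allRange (guard nn relP) 8 (33 * 2 ^ 8) = true := by decide +kernel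
theorem relP_blk34 : allRange (guard nn relP) 8 (34 * 2 ^ 8) = true := by decide +kernel
theorem relP_blk35 : allRange (guard nn relP) 8 (35 * 2 ^ 8) = true := by decide +kernel
theorem relP_blk36 : allRange (guard nn relP) 8 (36 * 2 ^ 8) = true := by decide +kernel
theorem relP_blk37 : allRange (guard nn relP) 8 (37 * 2 ^ 8) = true := by decide +kernel
theorem relP_blk38 : allRange (guard nn relP) 8 (38 * 2 ^ 8) = true := by decide +kernel
theorem relP_blk39 : allRange (guard nn relP) 8 (39 * 2 ^ 8) = true := by decide +kernel
theorem relP_blk40 : allRange (guard nn relP) 8 (40 * 2 ^ 8) = true := by decide +kernel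
theorem relP_blk41 : allRange (guard nn relP) 8 (41 * 2 ^ 8) = true := by decide +kernel
theorem relP_blk42 : allRange (guard nn relP) 8 (42 * 2 ^ 8) = true := by decide +kernel
theorem relP_blk43 : allRange (guard nn relP) 8 (43 * 2 ^ 8) = true := by decide +kernel
theorem relP_blk44 : allRange (guard nn relP) 8 (44 * 2 ^ 8) = true := by decide +kernel
theorem relP_blk45 : allRange (guard nn relP) 8 (45 * 2 ^ 8) = true := by decide +kernel
theorem relP_blk46 : allRange (guard nn relP) 8 (46 * 2 ^ 8) = true := by decide +kernel
theorem relP_blk47 : allRange (guard nn relP) 8 (47 * 2 ^ 8) = true := by decide +kernel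
theorem relP_f1 : ∀ k, 24 ≤ k → k < 48 → allRange (guard nn relP) 8 (k * 2 ^ 8) = true := by
  intro k h1 h2
  interval_cases k
  · exact relP_blk24
  · exact relP_blk25
  · exact relP_blk26
  · exact relP_blk27
  · exact relP_blk28
  · exact relP_blk29
  · exact relP_blk30
  · exact relP_blk31
  · exact relP_blk32
  · exact relP_blk33
  · exact relP_blk34
  · exact relP_blk35
  · exact relP_blk36
  · exact relP_blk37
  · exact relP_blk38
  · exact relP_blk39
  · exact relP_blk40
  · exact relP_blk41
  · exact relP_blk42
  · exact relP_blk43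
  · exact relP_blk44
  · exact relP_blk45
  · exact relP_blk46
  · exact relP_blk47

end

end Cfsg.Agent.Lib.Helper56.ONL37
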