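import Cfsg.Agent.Lib.Helper56.ONL37.Data

set_option autoImplicit false
set_option linter.unusedVariables false
set_option Elab.async false

namespace Cfsg.Agent.Lib.Helper56.ONL37

open Cfsg.Spor.ON (Gen)
open Cfsg.Agent.Lib.Helper28 Cfsg.Agent.Lib.Helper28.TC Cfsg.Agent.Lib.Helper28.TC2 Cfsg.Agent.Lib.Helper28.ON122760

noncomputable section

theorem relP_blk312 : allRange (guard nn relP) 8 (312 * 2 ^ 8) = true := by decide +kernel
theorem relP_blk313 : allRange (guard nn relP) 8 (313 * 2 ^ 8) = true := by decide +kernel
theorem relP_blk314 : allRange (guard nn relP) 8 (314 * 2 ^ 8) = true := by decide +kernel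
theorem relP_blk315 : allRange (guard nn relP) 8 (315 * 2 ^ 8) = true := by decide +kernel
theorem relP_blk316 : allRange (guard nn relP) 8 (316 * 2 ^ 8) = true := by decide +kernel
theorem relP_blk317 : allRange (guard nn relP) 8 (317 * 2 ^ 8) = true := by decide +kernel
theorem relP_blk318 : allRange (guard nn relP) 8 (318 * 2 ^ 8) = true := by decide +kernel
theorem relP_blk319 : allRange (guard nn relP) 8 (319 * 2 ^ 8) = true := by decide +kernel
theorem relP_blk320 : allRange (guard nn relP) 8 (320 * 2 ^ 8) = true := by decide +kernel
theorem relP_blk321 : allRange (guard nn relP) 8 (321 * 2 ^ 8) = true := by decide +kernel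
theorem relP_blk322 : allRange (guard nn relP) 8 (322 * 2 ^ 8) = true := by decide +kernel
theorem relP_blk323 : allRange (guard nn relP) 8 (323 * 2 ^ 8) = true := by decide +kernel
theorem relP_blk324 : allRange (guard nn relP) 8 (324 * 2 ^ 8) = true := by decide +kernel
theorem relP_blk325 : allRange (guard nn relP) 8 (325 * 2 ^ 8) = true := by decide +kernel
theorem relP_blk326 : allRange (guard nn relP) 8 (326 * 2 ^ 8) = true := by decide +kernel
theorem relP_blk327 : allRange (guard nn relP) 8 (327 * 2 ^ 8) = true := by decide +kernel
theorem relP_blk328 : allRange (guard nn relP) 8 (328 * 2 ^ 8) = true := by decide +kernel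
theorem relP_blk329 : allRange (guard nn relP) 8 (329 * 2 ^ 8) = true := by decide +kernel
theorem relP_blk330 : allRange (guard nn relP) 8 (330 * 2 ^ 8) = true := by decide +kernel
theorem relP_blk331 : allRange (guard nn relP) 8 (331 * 2 ^ 8) = true := by decide +kernel
theorem relP_blk332 : allRange (guard nn relP) 8 (332 * 2 ^ 8) = true := by decide +kernel
theorem relP_blk333 : allRange (guard nn relP) 8 (333 * 2 ^ 8) = true := by decide +kernel
theorem relP_blk334 : allRange (guard nn relP) 8 (334 * 2 ^ 8) = true := by decide +kernel
theorem relP_blk335 : allRange (guard nn relP) 8 (335 * 2 ^ 8) = true := by decide +kernel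
theorem relP_f13 : ∀ k, 312 ≤ k → k < 336 → allRange (guard nn relP) 8 (k * 2 ^ 8) = true := by
  intro k h1 h2
  interval_cases k
  · exact relP_blk312
  · exact relP_blk313
  · exact relP_blk314
  · exact relP_blk315
  · exact relP_blk316
  · exact relP_blk317
  · exact relP_blk318
  · exact relP_blk319
  · exact relP_blk320
  · exact relP_blk321
  · exact relP_blk322
  · exact relP_blk323
  · exact relP_blk324
  · exact relP_blk325
  · exact relP_blk326
  · exact relP_blk327
  · exact relP_blk328
  · exact relP_blk329
  · exact relP_blk330
  · exact relP_blk331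
  · exact relP_blk332
  · exact relP_blk333
  · exact relP_blk334
  · exact relP_blk335

end

end Cfsg.Agent.Lib.Helper56.ONL37
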