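import Cfsg.Agent.Lib.Helper56.ONL37.Data

set_option autoImplicit false
set_option linter.unusedVariables false
set_option Elab.async false

namespace Cfsg.Agent.Lib.Helper56.ONL37

open Cfsg.Spor.ON (Gen)
open Cfsg.Agent.Lib.Helper28 Cfsg.Agent.Lib.Helper28.TC Cfsg.Agent.Lib.Helper28.TC2 Cfsg.Agent.Lib.Helper28.ON122760

noncomputable section

theorem relP_blk360 : allRange (guard nn relP) 8 (360 * 2 ^ 8) = true := by decide +kernel
theorem relP_blk361 : allRange (guard nn relP) 8 (361 * 2 ^ 8) = true := by decide +kernel
theorem relP_blk362 : allRange (guard nn relP) 8 (362 * 2 ^ 8) = true := by decide +kernel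
theorem relP_blk363 : allRange (guard nn relP) 8 (363 * 2 ^ 8) = true := by decide +kernel
theorem relP_blk364 : allRange (guard nn relP) 8 (364 * 2 ^ 8) = true := by decide +kernel
theorem relP_blk365 : allRange (guard nn relP) 8 (365 * 2 ^ 8) = true := by decide +kernel
theorem relP_blk366 : allRange (guard nn relP) 8 (366 * 2 ^ 8) = true := by decide +kernel
theorem relP_blk367 : allRange (guard nn relP) 8 (367 * 2 ^ 8) = true := by decide +kernel
theorem relP_blk368 : allRange (guard nn relP) 8 (368 * 2 ^ 8) = true := by decide +kernel
theorem relP_blk369 : allRange (guard nn relP) 8 (369 * 2 ^ 8) = true := by decide +kernel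
theorem relP_blk370 : allRange (guard nn relP) 8 (370 * 2 ^ 8) = true := by decide +kernel
theorem relP_blk371 : allRange (guard nn relP) 8 (371 * 2 ^ 8) = true := by decide +kernel
theorem relP_blk372 : allRange (guard nn relP) 8 (372 * 2 ^ 8) = true := by decide +kernel
theorem relP_blk373 : allRange (guard nn relP) 8 (373 * 2 ^ 8) = true := by decide +kernel
theorem relP_blk374 : allRange (guard nn relP) 8 (374 * 2 ^ 8) = true := by decide +kernel
theorem relP_blk375 : allRange (guard nn relP) 8 (375 * 2 ^ 8) = true := by decide +kernel
theorem relP_blk376 : allRange (guard nn relP) 8 (376 * 2 ^ 8) = true := by decide +kernel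
theorem relP_blk377 : allRange (guard nn relP) 8 (377 * 2 ^ 8) = true := by decide +kernel
theorem relP_blk378 : allRange (guard nn relP) 8 (378 * 2 ^ 8) = true := by decide +kernel
theorem relP_blk379 : allRange (guard nn relP) 8 (379 * 2 ^ 8) = true := by decide +kernel
theorem relP_blk380 : allRange (guard nn relP) 8 (380 * 2 ^ 8) = true := by decide +kernel
theorem relP_blk381 : allRange (guard nn relP) 8 (381 * 2 ^ 8) = true := by decide +kernel
theorem relP_blk382 : allRange (guard nn relP) 8 (382 * 2 ^ 8) = true := by decide +kernel
theorem relP_blk383 : allRange (guard nn relP) 8 (383 * 2 ^ 8) = true := by decide +kernel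
theorem relP_f15 : ∀ k, 360 ≤ k → k < 384 → allRange (guard nn relP) 8 (k * 2 ^ 8) = true := by
  intro k h1 h2
  interval_cases k
  · exact relP_blk360
  · exact relP_blk361
  · exact relP_blk362
  · exact relP_blk363
  · exact relP_blk364
  · exact relP_blk365
  · exact relP_blk366
  · exact relP_blk367
  · exact relP_blk368
  · exact relP_blk369
  · exact relP_blk370
  · exact relP_blk371
  · exact relP_blk372
  · exact relP_blk373
  · exact relP_blk374
  · exact relP_blk375
  · exact relP_blk376
  · exact relP_blk377
  · exact relP_blk378
  · exact relP_blk379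
  · exact relP_blk380
  · exact relP_blk381
  · exact relP_blk382
  · exact relP_blk383

end

end Cfsg.Agent.Lib.Helper56.ONL37
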