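import Cfsg.Agent.Lib.Helper56.ONL37.Data

set_option autoImplicit false
set_option linter.unusedVariables false
set_option Elab.async false

namespace Cfsg.Agent.Lib.Helper56.ONL37

open Cfsg.Spor.ON (Gen)
open Cfsg.Agent.Lib.Helper28 Cfsg.Agent.Lib.Helper28.TC Cfsg.Agent.Lib.Helper28.TC2 Cfsg.Agent.Lib.Helper28.ON122760

noncomputable section

theorem relP_blk384 : allRange (guard nn relP) 8 (384 * 2 ^ 8) = true := by decide +kernel
theorem relP_blk385 : allRange (guard nn relP) 8 (385 * 2 ^ 8) = true := by decide +kernel
theorem relP_blk386 : allRange (guard nn relP) 8 (386 * 2 ^ 8) = true := by decide +kernel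
theorem relP_blk387 : allRange (guard nn relP) 8 (387 * 2 ^ 8) = true := by decide +kernel
theorem relP_blk388 : allRange (guard nn relP) 8 (388 * 2 ^ 8) = true := by decide +kernel
theorem relP_blk389 : allRange (guard nn relP) 8 (389 * 2 ^ 8) = true := by decide +kernel
theorem relP_blk390 : allRange (guard nn relP) 8 (390 * 2 ^ 8) = true := by decide +kernel
theorem relP_blk391 : allRange (guard nn relP) 8 (391 * 2 ^ 8) = true := by decide +kernel
theorem relP_blk392 : allRange (guard nn relP) 8 (392 * 2 ^ 8) = true := by decide +kernel
theorem relP_blk393 : allRange (guard nn relP) 8 (393 * 2 ^ 8) = true := by decide +kernel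
theorem relP_blk394 : allRange (guard nn relP) 8 (394 * 2 ^ 8) = true := by decide +kernel
theorem relP_blk395 : allRange (guard nn relP) 8 (395 * 2 ^ 8) = true := by decide +kernel
theorem relP_blk396 : allRange (guard nn relP) 8 (396 * 2 ^ 8) = true := by decide +kernel
theorem relP_blk397 : allRange (guard nn relP) 8 (397 * 2 ^ 8) = true := by decide +kernel
theorem relP_blk398 : allRange (guard nn relP) 8 (398 * 2 ^ 8) = true := by decide +kernel
theorem relP_blk399 : allRange (guard nn relP) 8 (399 * 2 ^ 8) = true := by decide +kernel
theorem relP_blk400 : allRange (guard nn relP) 8 (400 * 2 ^ 8) = true := by decide +kernel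
theorem relP_blk401 : allRange (guard nn relP) 8 (401 * 2 ^ 8) = true := by decide +kernel
theorem relP_blk402 : allRange (guard nn relP) 8 (402 * 2 ^ 8) = true := by decide +kernel
theorem relP_blk403 : allRange (guard nn relP) 8 (403 * 2 ^ 8) = true := by decide +kernel
theorem relP_blk404 : allRange (guard nn relP) 8 (404 * 2 ^ 8) = true := by decide +kernel
theorem relP_blk405 : allRange (guard nn relP) 8 (405 * 2 ^ 8) = true := by decide +kernel
theorem relP_blk406 : allRange (guard nn relP) 8 (406 * 2 ^ 8) = true := by decide +kernel
theorem relP_blk407 : allRange (guard nn relP) 8 (407 * 2 ^ 8) = true := by decide +kernel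
theorem relP_f16 : ∀ k, 384 ≤ k → k < 408 → allRange (guard nn relP) 8 (k * 2 ^ 8) = true := by
  intro k h1 h2
  interval_cases k
  · exact relP_blk384
  · exact relP_blk385
  · exact relP_blk386
  · exact relP_blk387
  · exact relP_blk388
  · exact relP_blk389
  · exact relP_blk390
  · exact relP_blk391
  · exact relP_blk392
  · exact relP_blk393
  · exact relP_blk394
  · exact relP_blk395
  · exact relP_blk396
  · exact relP_blk397
  · exact relP_blk398
  · exact relP_blk399
  · exact relP_blk400
  · exact relP_blk401
  · exact relP_blk402
  · exact relP_blk403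
  · exact relP_blk404
  · exact relP_blk405
  · exact relP_blk406
  · exact relP_blk407

end

end Cfsg.Agent.Lib.Helper56.ONL37
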