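import Cfsg.Agent.Lib.Helper56.ONL37.Data

set_option autoImplicit false
set_option linter.unusedVariables false
set_option Elab.async false

namespace Cfsg.Agent.Lib.Helper56.ONL37

open Cfsg.Spor.ON (Gen)
open Cfsg.Agent.Lib.Helper28 Cfsg.Agent.Lib.Helper28.TC Cfsg.Agent.Lib.Helper28.TC2 Cfsg.Agent.Lib.Helper28.ON122760

noncomputable section

theorem relP_blk456 : allRange (guard nn relP) 8 (456 * 2 ^ 8) = true := by decide +kernel
theorem relP_blk457 : allRange (guard nn relP) 8 (457 * 2 ^ 8) = true := by decide +kernel
theorem relP_blk458 : allRange (guard nn relP) 8 (458 * 2 ^ 8) = true := by decide +kernel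
theorem relP_blk459 : allRange (guard nn relP) 8 (459 * 2 ^ 8) = true := by decide +kernel
theorem relP_blk460 : allRange (guard nn relP) 8 (460 * 2 ^ 8) = true := by decide +kernel
theorem relP_blk461 : allRange (guard nn relP) 8 (461 * 2 ^ 8) = true := by decide +kernel
theorem relP_blk462 : allRange (guard nn relP) 8 (462 * 2 ^ 8) = true := by decide +kernel
theorem relP_blk463 : allRange (guard nn relP) 8 (463 * 2 ^ 8) = true := by decide +kernel
theorem relP_blk464 : allRange (guard nn relP) 8 (464 * 2 ^ 8) = true := by decide +kernel
theorem relP_blk465 : allRange (guard nn relP) 8 (465 * 2 ^ 8) = true := by decide +kernel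
theorem relP_blk466 : allRange (guard nn relP) 8 (466 * 2 ^ 8) = true := by decide +kernel
theorem relP_blk467 : allRange (guard nn relP) 8 (467 * 2 ^ 8) = true := by decide +kernel
theorem relP_blk468 : allRange (guard nn relP) 8 (468 * 2 ^ 8) = true := by decide +kernel
theorem relP_blk469 : allRange (guard nn relP) 8 (469 * 2 ^ 8) = true := by decide +kernel
theorem relP_blk470 : allRange (guard nn relP) 8 (470 * 2 ^ 8) = true := by decide +kernel
theorem relP_blk471 : allRange (guard nn relP) 8 (471 * 2 ^ 8) = true := by decide +kernel
theorem relP_blk472 : allRange (guard nn relP) 8 (472 * 2 ^ 8) = true := by decide +kernel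
theorem relP_blk473 : allRange (guard nn relP) 8 (473 * 2 ^ 8) = true := by decide +kernel
theorem relP_blk474 : allRange (guard nn relP) 8 (474 * 2 ^ 8) = true := by decide +kernel
theorem relP_blk475 : allRange (guard nn relP) 8 (475 * 2 ^ 8) = true := by decide +kernel
theorem relP_blk476 : allRange (guard nn relP) 8 (476 * 2 ^ 8) = true := by decide +kernel
theorem relP_blk477 : allRange (guard nn relP) 8 (477 * 2 ^ 8) = true := by decide +kernel
theorem relP_blk478 : allRange (guard nn relP) 8 (478 * 2 ^ 8) = true := by decide +kernel
theorem relP_blk479 : allRange (guard nn relP) 8 (479 * 2 ^ 8) = true := by decide +kernel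
theorem relP_f19 : ∀ k, 456 ≤ k → k < 480 → allRange (guard nn relP) 8 (k * 2 ^ 8) = true := by
  intro k h1 h2
  interval_cases k
  · exact relP_blk456
  · exact relP_blk457
  · exact relP_blk458
  · exact relP_blk459
  · exact relP_blk460
  · exact relP_blk461
  · exact relP_blk462
  · exact relP_blk463
  · exact relP_blk464
  · exact relP_blk465
  · exact relP_blk466
  · exact relP_blk467
  · exact relP_blk468
  · exact relP_blk469
  · exact relP_blk470
  · exact relP_blk471
  · exact relP_blk472
  · exact relP_blk473
  · exact relP_blk474
  · exact relP_blk475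
  · exact relP_blk476
  · exact relP_blk477
  · exact relP_blk478
  · exact relP_blk479

end

end Cfsg.Agent.Lib.Helper56.ONL37
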