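import Cfsg.Agent.Lib.Helper56.ONL37.Data

set_option autoImplicit false
set_option linter.unusedVariables false
set_option Elab.async false

namespace Cfsg.Agent.Lib.Helper56.ONL37

open Cfsg.Spor.ON (Gen)
open Cfsg.Agent.Lib.Helper28 Cfsg.Agent.Lib.Helper28.TC Cfsg.Agent.Lib.Helper28.TC2 Cfsg.Agent.Lib.Helper28.ON122760

noncomputable section

theorem relP_blk192 : allRange (guard nn relP) 8 (192 * 2 ^ 8) = true := by decide +kernel
theorem relP_blk193 : allRange (guard nn relP) 8 (193 * 2 ^ 8) = true := by decide +kernel
theorem relP_blk194 : allRange (guard nn relP) 8 (194 * 2 ^ 8) = true := by decide +kernel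
theorem relP_blk195 : allRange (guard nn relP) 8 (195 * 2 ^ 8) = true := by decide +kernel
theorem relP_blk196 : allRange (guard nn relP) 8 (196 * 2 ^ 8) = true := by decide +kernel
theorem relP_blk197 : allRange (guard nn relP) 8 (197 * 2 ^ 8) = true := by decide +kernel
theorem relP_blk198 : allRange (guard nn relP) 8 (198 * 2 ^ 8) = true := by decide +kernel
theorem relP_blk199 : allRange (guard nn relP) 8 (199 * 2 ^ 8) = true := by decide +kernel
theorem relP_blk200 : allRange (guard nn relP) 8 (200 * 2 ^ 8) = true := by decide +kernel
theorem relP_blk201 : allRange (guard nn relP) 8 (201 * 2 ^ 8) = true := by decide +kernel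
theorem relP_blk202 : allRange (guard nn relP) 8 (202 * 2 ^ 8) = true := by decide +kernel
theorem relP_blk203 : allRange (guard nn relP) 8 (203 * 2 ^ 8) = true := by decide +kernel
theorem relP_blk204 : allRange (guard nn relP) 8 (204 * 2 ^ 8) = true := by decide +kernel
theorem relP_blk205 : allRange (guard nn relP) 8 (205 * 2 ^ 8) = true := by decide +kernel
theorem relP_blk206 : allRange (guard nn relP) 8 (206 * 2 ^ 8) = true := by decide +kernel
theorem relP_blk207 : allRange (guard nn relP) 8 (207 * 2 ^ 8) = true := by decide +kernel
theorem relP_blk208 : allRange (guard nn relP) 8 (208 * 2 ^ 8) = true := by decide +kernel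
theorem relP_blk209 : allRange (guard nn relP) 8 (209 * 2 ^ 8) = true := by decide +kernel
theorem relP_blk210 : allRange (guard nn relP) 8 (210 * 2 ^ 8) = true := by decide +kernel
theorem relP_blk211 : allRange (guard nn relP) 8 (211 * 2 ^ 8) = true := by decide +kernel
theorem relP_blk212 : allRange (guard nn relP) 8 (212 * 2 ^ 8) = true := by decide +kernel
theorem relP_blk213 : allRange (guard nn relP) 8 (213 * 2 ^ 8) = true := by decide +kernel
theorem relP_blk214 : allRange (guard nn relP) 8 (214 * 2 ^ 8) = true := by decide +kernel
theorem relP_blk215 : allRange (guard nn relP) 8 (215 * 2 ^ 8) = true := by decide +kernel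
theorem relP_f8 : ∀ k, 192 ≤ k → k < 216 → allRange (guard nn relP) 8 (k * 2 ^ 8) = true := by
  intro k h1 h2
  interval_cases k
  · exact relP_blk192
  · exact relP_blk193
  · exact relP_blk194
  · exact relP_blk195
  · exact relP_blk196
  · exact relP_blk197
  · exact relP_blk198
  · exact relP_blk199
  · exact relP_blk200
  · exact relP_blk201
  · exact relP_blk202
  · exact relP_blk203
  · exact relP_blk204
  · exact relP_blk205
  · exact relP_blk206
  · exact relP_blk207
  · exact relP_blk208
  · exact relP_blk209
  · exact relP_blk210
  · exact relP_blk211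
  · exact relP_blk212
  · exact relP_blk213
  · exact relP_blk214
  · exact relP_blk215

end

end Cfsg.Agent.Lib.Helper56.ONL37
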