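import Cfsg.Agent.Lib.Helper56.ONL37.ChkR0
import Cfsg.Agent.Lib.Helper56.ONL37.ChkR1
import Cfsg.Agent.Lib.Helper56.ONL37.ChkR2
import Cfsg.Agent.Lib.Helper56.ONL37.ChkR3
import Cfsg.Agent.Lib.Helper56.ONL37.ChkR4
import Cfsg.Agent.Lib.Helper56.ONL37.ChkR5
import Cfsg.Agent.Lib.Helper56.ONL37.ChkR6
import Cfsg.Agent.Lib.Helper56.ONL37.ChkR7
import Cfsg.Agent.Lib.Helper56.ONL37.ChkR8
import Cfsg.Agent.Lib.Helper56.ONL37.ChkR9
import Cfsg.Agent.Lib.Helper56.ONL37.ChkR10
import Cfsg.Agent.Lib.Helper56.ONL37.ChkR11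
import Cfsg.Agent.Lib.Helper56.ONL37.ChkR12
import Cfsg.Agent.Lib.Helper56.ONL37.ChkR13
import Cfsg.Agent.Lib.Helper56.ONL37.ChkR14
import Cfsg.Agent.Lib.Helper56.ONL37.ChkR15
import Cfsg.Agent.Lib.Helper56.ONL37.ChkR16
import Cfsg.Agent.Lib.Helper56.ONL37.ChkR17
import Cfsg.Agent.Lib.Helper56.ONL37.ChkR18
import Cfsg.Agent.Lib.Helper56.ONL37.ChkR19

set_option autoImplicit false
set_option linter.unusedVariables false

namespace Cfsg.Agent.Lib.Helper56.ONL37

open Cfsg.Spor.ON (Gen)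
open Cfsg.Agent.Lib.Helper28 Cfsg.Agent.Lib.Helper28.TC Cfsg.Agent.Lib.Helper28.TC2 Cfsg.Agent.Lib.Helper28.ON122760

noncomputable section

theorem relP_allk : ∀ k, k < 480 → allRange (guard nn relP) 8 (k * 2 ^ 8) = true := by
  intro k hk
  by_cases h0 : k < 24
  · exact relP_f0 k (by omega) h0
  by_cases h1 : k < 48
  · exact relP_f1 k (by omega) h1
  by_cases h2 : k < 72
  · exact relP_f2 k (by omega) h2
  by_cases h3 : k < 96
  · exact relP_f3 k (by omega) h3
  by_cases h4 : k < 120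
  · exact relP_f4 k (by omega) h4
  by_cases h5 : k < 144
  · exact relP_f5 k (by omega) h5
  by_cases h6 : k < 168
  · exact relP_f6 k (by omega) h6
  by_cases h7 : k < 192
  · exact relP_f7 k (by omega) h7
  by_cases h8 : k < 216
  · exact relP_f8 k (by omega) h8
  by_cases h9 : k < 240
  · exact relP_f9 k (by omega) h9
  by_cases h10 : k < 264
  · exact relP_f10 k (by omega) h10
  by_cases h11 : k < 288
  · exact relP_f11 k (by omega) h11
  by_cases h12 : k < 312
  · exact relP_f12 k (by omega) h12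
  by_cases h13 : k < 336
  · exact relP_f13 k (by omega) h13
  by_cases h14 : k < 360
  · exact relP_f14 k (by omega) h14
  by_cases h15 : k < 384
  · exact relP_f15 k (by omega) h15
  by_cases h16 : k < 408
  · exact relP_f16 k (by omega) h16
  by_cases h17 : k < 432
  · exact relP_f17 k (by omega) h17
  by_cases h18 : k < 456
  · exact relP_f18 k (by omega) h18
  exact relP_f19 k (by omega) hk
theorem relP_all : ∀ i, i < nn → relP i = true :=
  all_of_blocks nn relP 8 480 (by decide) relP_allk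

end

end Cfsg.Agent.Lib.Helper56.ONL37
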