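/-
In the presented O'Nan group, the subgroup `H = ⟨a, …, f⟩` has a normal subgroup of index 2
isomorphic to `PSL₃(7)`, by helper56.

The normal subgroup is `⟨ad, be, ce, ac⟩`: these four involutions satisfy the relators of the
presentation `L37Q` (checked in the faithful permutation representation on 122760 points), `L37Q`
is simple of order 1876896 (`L37Perm.l37q_simple_order`), and `L37Q` maps onto explicit matrices
over `ZMod 7` (`L37Mat`); the order of `PSL₃(7)` is `S0243`.
-/
import Cfsg.Agent.Lib.Helper56.ONL37.ChkAll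
import Cfsg.Agent.Lib.Helper56.ONPerm.Main
import Cfsg.Agent.Lib.Helper56.L37Perm.Main
import Cfsg.Agent.Lib.Helper56.L37Mat
import Cfsg.Agent.S0243

set_option autoImplicit false

namespace Cfsg.Agent.Lib.Helper56.ONL37

open Cfsg.Agent.Lib.Helper28 Cfsg.Agent.Lib.Helper28.TC Cfsg.Agent.Lib.Helper28.TC2
open Cfsg.Agent.Lib.Helper28.ON122760 Cfsg.Agent.Lib.Helper56.PresHom
open Cfsg.Spor.ON (Gen)

/-- the presented O'Nan group -/
abbrev ONG : Type := PresentedGroup ON122760.rels

/-- the presented group `L37Q` -/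
abbrev Q : Type := PresentedGroup L37Q.rels

/-- the images of the generators of `L37Q` in the O'Nan group -/
noncomputable def valQ (x : L37Q.Gen) : ONG := wval ON122760.val (sub x)

theorem wval_valQ (w : List L37Q.Gen) :
    wval valQ w = wval ON122760.val (w.flatMap sub) := by
  induction w with
  | nil => rfl
  | cons x w ih =>
    rw [wval_cons, ih, List.flatMap_cons, wval_append]
    rfl

theorem relP_spec (i : ℕ) (hi : i < nn) :
    (∀ x, tauQ x i = act tf (sub x) i) ∧ ∀ w ∈ L37Q.relWords, act tauQ w i = i := by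
  have h := relP_all i hi
  unfold relP at h
  rw [band_eq_true] at h
  refine ⟨fun x => ?_, fun w hw => relRowOK_spec tauQ L37Q.relWords i h.2 w hw⟩
  exact nbeq_eq_true.1 (allList_spec _ _ h.1 x (L37Q.mem_gens x))

theorem act_tau (w : List L37Q.Gen) : ∀ i, i < nn →
    act tauQ w i = act tf (w.flatMap sub) i := by
  induction w with
  | nil => intro i _; rfl
  | cons x w ih =>
    intro i hi
    have hlt : act tf (w.flatMap sub) i < nn := T.act_lt _ i hi
    rw [act_cons, ih i hi, (relP_spec _ hlt).1 x, List.flatMap_cons, act_append]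

theorem rel_act : ∀ w ∈ L37Q.relWords, ∀ i, i < nn → act tf (w.flatMap sub) i = i := by
  intro w hw i hi
  rw [← act_tau w i hi]
  exact (relP_spec i hi).2 w hw

theorem rel_val : ∀ e ∈ L37Q.relE, wval valQ e.evalW = 1 := by
  intro e he
  rw [wval_valQ]
  exact ONPerm.wval_eq_one_of_act _ (rel_act _ (L37Q.relE_words e he))

theorem valQ_sq (x : L37Q.Gen) : valQ x * valQ x = 1 := by
  have h := rel_val (WE.mul (WE.of x) (WE.of x))
    (List.mem_append_left _ (List.mem_map_of_mem (L37Q.mem_gens x)))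
  simpa [WE.evalW, wval] using h

theorem exists_φ : ∃ φ : Q →* ONG, ∀ x, φ (PresentedGroup.of x) = valQ x :=
  exists_hom_to L37Q.relE valQ valQ_sq rel_val

theorem injective_of_simple' {G L : Type*} [Group G] [Group L] [IsSimpleGroup G] (f : G →* L)
    (g : G) (hg : f g ≠ 1) : Function.Injective f := by
  rw [← MonoidHom.ker_eq_bot_iff]
  rcases IsSimpleGroup.eq_bot_or_eq_top_of_normal f.ker f.normal_ker with h | h
  · exact h
  · exfalso
    apply hg
    have h1 : g ∈ f.ker := h ▸ Subgroup.mem_top g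
    exact MonoidHom.mem_ker.1 h1

theorem valQ_p_ne_one : valQ L37Q.Gen.p ≠ 1 := by
  intro h
  have h1 : ONPerm.π (valQ L37Q.Gen.p) = 1 := by rw [h, map_one]
  have h2 : ONPerm.wp [some Gen.a, some Gen.d] = 1 := by
    rw [← ONPerm.π_wval]
    exact h1
  have h3 := ONPerm.wp_apply [some Gen.a, some Gen.d] ⟨1, by decide⟩
  rw [h2] at h3
  revert h3
  decide +kernel

/-- the subgroup `H` -/
noncomputable abbrev H : Subgroup ONG := subH ON122760.rels ON122760.subS

/-- the letters of the subgroup generators -/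
def subLetters : List Ltr :=
  [some Gen.a, some Gen.b, some Gen.c, some Gen.d, some Gen.e, some Gen.f]

theorem val_mem_H (y : Ltr) (hy : y ∈ subLetters) : ON122760.val y ∈ H := by
  have h : ∃ a : Gen, y = some a ∧ FreeGroup.of a ∈ ON122760.subS := by
    simp only [subLetters, List.mem_cons, List.not_mem_nil, or_false] at hy
    rcases hy with rfl | rfl | rfl | rfl | rfl | rfl
    · exact ⟨Gen.a, rfl, by simp [ON122760.subS]⟩
    · exact ⟨Gen.b, rfl, by simp [ON122760.subS]⟩
    · exact ⟨Gen.c, rfl, by simp [ON122760.subS]⟩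
    · exact ⟨Gen.d, rfl, by simp [ON122760.subS]⟩
    · exact ⟨Gen.e, rfl, by simp [ON122760.subS]⟩
    · exact ⟨Gen.f, rfl, by simp [ON122760.subS]⟩
  obtain ⟨a, rfl, ha⟩ := h
  exact Subgroup.mem_map_of_mem _ (Subgroup.subset_closure ha)

theorem wval_mem_H (w : List Ltr) (hw : ∀ y ∈ w, y ∈ subLetters) : wval ON122760.val w ∈ H := by
  induction w with
  | nil => exact H.one_mem
  | cons y w ih =>
    rw [wval_cons]
    exact H.mul_mem (val_mem_H y (hw y List.mem_cons_self))
      (ih fun z hz => hw z (List.mem_cons_of_mem _ hz))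

theorem sub_letters : ∀ x : L37Q.Gen, ∀ y ∈ sub x, y ∈ subLetters := by
  intro x
  cases x <;> decide

theorem valQ_mem_H (x : L37Q.Gen) : valQ x ∈ H := wval_mem_H (sub x) (sub_letters x)

theorem range_le (φ : Q →* ONG) (hφ : ∀ x, φ (PresentedGroup.of x) = valQ x) : φ.range ≤ H := by
  rw [MonoidHom.range_eq_map, ← PresentedGroup.closure_range_of, MonoidHom.map_closure,
    Subgroup.closure_le]
  rintro _ ⟨_, ⟨x, rfl⟩, rfl⟩
  rw [hφ]
  exact valQ_mem_H x

theorem card_H : Nat.card H = 3753792 := by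
  obtain ⟨e, -, -⟩ := ON122760.cosetEquiv
  have h1 : Nat.card ONG = Nat.card (ONG ⧸ H) * Nat.card H :=
    Subgroup.card_eq_card_quotient_mul_card_subgroup H
  have h2 : Nat.card (ONG ⧸ H) = 122760 := by
    rw [Nat.card_congr e, Nat.card_fin]
    rfl
  rw [ONPerm.card_ON, h2] at h1
  omega

theorem card_psl :
    Nat.card (Matrix.ProjectiveSpecialLinearGroup (Fin 3) (ZMod 7)) = 1876896 := by
  haveI : Fact (Nat.Prime 7) := ⟨by norm_num⟩
  have h := Cfsg.Agent.S0243.result (F := ZMod 7) (q := 7) (ZMod.card 7) 3 (by norm_num)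
  have h2 : ∏ i : Fin 3, (7 ^ 3 - 7 ^ (i : ℕ)) = 33784128 := by
    rw [Fin.prod_univ_three]
    norm_num
  rw [h2] at h
  have h3 : Nat.gcd 3 (7 - 1) = 3 := by norm_num
  rw [h3] at h
  omega

/-- `H` has a normal subgroup of index 2 isomorphic to `PSL₃(7)`. -/
theorem main : ∃ N : Subgroup ↥H, N.Normal ∧ N.index = 2 ∧
    Nonempty (N ≃* Matrix.ProjectiveSpecialLinearGroup (Fin 3) (ZMod 7)) := by
  obtain ⟨hsimple, hcardQ⟩ := L37Perm.l37q_simple_order
  obtain ⟨φ, hφ⟩ := exists_φ
  have hφinj : Function.Injective φ :=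
    injective_of_simple' φ (PresentedGroup.of L37Q.Gen.p) (by rw [hφ]; exact valQ_p_ne_one)
  obtain ⟨ψ, hψ⟩ := exists_hom_to L37Q.relE L37Mat.gM L37Mat.gM_sq L37Mat.rel_gM
  have hψinj : Function.Injective ψ :=
    injective_of_simple' ψ (PresentedGroup.of L37Q.Gen.p) (by rw [hψ]; exact L37Mat.gM_p_ne_one)
  have : Finite (Matrix.ProjectiveSpecialLinearGroup (Fin 3) (ZMod 7)) :=
    Nat.finite_of_card_ne_zero (by rw [card_psl]; norm_num)
  have hψbij : Function.Bijective ψ :=
    hψinj.bijective_of_nat_card_le (by rw [card_psl, hcardQ])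
  have hle : φ.range ≤ H := range_le φ hφ
  have hcardN0 : Nat.card φ.range = 1876896 := by
    rw [← hcardQ]
    exact (Nat.card_congr (MonoidHom.ofInjective hφinj).toEquiv).symm
  have hcardN : Nat.card (φ.range.subgroupOf H) = 1876896 := by
    rw [← hcardN0]
    exact Nat.card_congr (Subgroup.subgroupOfEquivOfLe hle).toEquiv
  have hidx : (φ.range.subgroupOf H).index = 2 := by
    have h := Subgroup.card_mul_index (φ.range.subgroupOf H)
    rw [hcardN, card_H] at h
    omega
  refine ⟨φ.range.subgroupOf H, Subgroup.normal_of_index_eq_two hidx, hidx, ?_⟩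
  exact ⟨(Subgroup.subgroupOfEquivOfLe hle).trans
    ((MonoidHom.ofInjective hφinj).symm.trans (MulEquiv.ofBijective ψ hψbij))⟩

end Cfsg.Agent.Lib.Helper56.ONL37
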